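import Mathlib
import Cfsg.Agent.H695.OneZero.Base
import Cfsg.Agent.Characters.CentralCharacter
import Cfsg.Agent.H631.Kaw.Defs

/-!
# From a unit property of a class sum to the values of a central character (S4842, piece B)

`P` a set of elements of `Y` closed under conjugation and under powers prime to `|Y|`.
* `exists_lam` : `∑ g ∈ P, χ g = lam * χ 1` with an integer `lam`;
* `eq_pow_of_unit` : if `∑ g ∈ P, φ g = 0` in a ring in which `p` is invertible forces the ring to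
  be zero, then `lam` is plus or minus a power of `p`.
-/

set_option autoImplicit false

namespace Cfsg.Agent.H732.Kaw

open Cfsg Cfsg.Agent.Characters Cfsg.Agent.H686.CharKit Finset

universe u

variable {Y : Type u} [Group Y] [Finite Y]

/-- The central character value of a rational class sum is an integer. -/
theorem exists_lam (P : Finset Y) (hconj : ∀ g x : Y, x ∈ P → g * x * g⁻¹ ∈ P)
    (hgal : H695.OneZero.Gal P) (χ : IrrCharacter Y) :
    ∃ lam : ℤ, ∑ g ∈ P, (χ : Y → ℂ) g = lam * (χ : Y → ℂ) 1 := by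
  classical
  have := Fintype.ofFinite Y
  have hχ := Core.isIrr_isCharacter χ.2
  have hne : (χ : Y → ℂ) 1 ≠ 0 := by
    rw [← charDegree_irr χ]
    exact_mod_cast (charDegree_pos χ).ne'
  have hiff : ∀ x g : Y, g * x * g⁻¹ ∈ P ↔ x ∈ P := fun x g => ⟨fun h => by
    have := hconj g⁻¹ _ h
    have e : g⁻¹ * (g * x * g⁻¹) * g⁻¹⁻¹ = x := by group
    rwa [e] at this, hconj g x⟩
  have hsum : ∑ x : Y, (((if x ∈ P then 1 else 0 : ℤ)) : ℂ) * (χ : Y → ℂ) x
      = ∑ g ∈ P, (χ : Y → ℂ) g := by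
    have : ∀ x : Y, (((if x ∈ P then 1 else 0 : ℤ)) : ℂ) * (χ : Y → ℂ) x
        = if x ∈ P then (χ : Y → ℂ) x else 0 := by
      intro x
      split_ifs <;> simp
    rw [Finset.sum_congr rfl fun x _ => this x, ← Finset.sum_filter]
    refine Finset.sum_congr ?_ fun _ _ => rfl
    ext x; simp
  have hint : IsIntegral ℤ ((∑ g ∈ P, (χ : Y → ℂ) g) / (χ : Y → ℂ) 1) := by
    obtain ⟨n, ρ, hρ, hρχ⟩ := χ.2
    have h1 := CentralCharacter.isIntegral_sum_int ρ (fun x => if x ∈ P then 1 else 0)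
      (fun x g => by simp only [hiff x g])
    have hfin : (Module.finrank ℂ (Fin n → ℂ) : ℂ) = (χ : Y → ℂ) 1 := by
      rw [← hρχ, Representation.char_one]
    rw [hfin, hρχ] at h1
    rw [← hsum]
    convert h1 using 4
  have hfix : ∀ σ : ℂ ≃+* ℂ, σ ((∑ g ∈ P, (χ : Y → ℂ) g) / (χ : Y → ℂ) 1)
      = (∑ g ∈ P, (χ : Y → ℂ) g) / (χ : Y → ℂ) 1 := by
    intro σ
    obtain ⟨k, hk, hσ⟩ := GaloisBasic.exists_pow_of_ringEquiv (G := Y) σ
    rw [map_div₀, map_sum, hσ _ hχ, one_pow]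
    congr 1
    have hinj : Function.Injective fun g : Y => g ^ k := (powCoprime hk.symm).injective
    conv_rhs => rw [← hgal.image hk]
    rw [Finset.sum_image fun a _ b _ hab => hinj hab]
    exact Finset.sum_congr rfl fun g _ => hσ _ hχ g
  obtain ⟨q, hq⟩ := GaloisBasic.exists_rat_of_forall_ringEquiv hint.tower_top hfix
  obtain ⟨k, hk⟩ := GaloisBasic.exists_int_of_isIntegral hint ⟨q, hq⟩
  refine ⟨k, ?_⟩
  rw [← hk]
  field_simp

omit [Finite Y] in
/-- A ring generated by the image of `Y` in which the class sum is divisible by the prime `l`. -/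
theorem exists_inv_of_sum {p : ℕ} (P : Finset Y)
    (hU : ∀ (A : Type u) [Ring A] (φ : Y →* A), IsUnit (p : A) → (∑ g ∈ P, φ g) = 0 → (1 : A) = 0)
    {l : ℕ} (hl : l.Prime) (hlp : ¬ l ∣ p) {S : Type} [Ring S] (φ0 : Y →* S) {w : ℤ}
    (h1 : ∑ g ∈ P, φ0 g = (l : S) * (w : S)) : ∃ c : S, c * (l : S) = 1 := by
  let I : Ideal S := Ideal.span {(l : S)}
  have hIts : I.IsTwoSided := by
    constructor
    intro a b ha
    obtain ⟨c, hc⟩ := Ideal.mem_span_singleton'.1 ha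
    rw [← hc]
    refine Ideal.mem_span_singleton'.2 ⟨c * b, ?_⟩
    rw [mul_assoc, mul_assoc, (Nat.cast_commute l b).eq]
  let e : (S ⧸ I) →* ULift.{u} (S ⧸ I) := (ULift.ringEquiv (R := (S ⧸ I))).symm.toMonoidHom
  let φ : Y →* ULift.{u} (S ⧸ I) := e.comp (((Ideal.Quotient.mk I) : S →* (S ⧸ I)).comp φ0)
  have hp : IsUnit ((p : ℕ) : ULift.{u} (S ⧸ I)) := by
    have hcop : IsCoprime (l : ℤ) (p : ℤ) :=
      Nat.isCoprime_iff_coprime.2 ((Nat.Prime.coprime_iff_not_dvd hl).2 hlp)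
    obtain ⟨a, b, hab⟩ := hcop
    have h0 : ((l : ℕ) : S ⧸ I) = 0 := by
      have h5 : (Ideal.Quotient.mk I) (l : S) = 0 :=
        Ideal.Quotient.eq_zero_iff_mem.2 (Ideal.subset_span rfl)
      simpa using h5
    have h1 : (a : S ⧸ I) * (l : S ⧸ I) + (b : S ⧸ I) * (p : S ⧸ I) = 1 := by
      exact_mod_cast congrArg (fun t : ℤ => (t : S ⧸ I)) hab
    rw [h0, mul_zero, zero_add] at h1
    have h2 : (p : S ⧸ I) * (b : S ⧸ I) = 1 := by
      rw [(Nat.cast_commute p _).eq, h1]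
    have h3 : IsUnit (p : S ⧸ I) := ⟨⟨p, b, h2, h1⟩, rfl⟩
    have h4 := h3.map (ULift.ringEquiv (R := (S ⧸ I))).symm
    simpa using h4
  have hsum : ∑ g ∈ P, φ g = 0 := by
    have h2 : ∑ g ∈ P, (Ideal.Quotient.mk I) (φ0 g) = 0 := by
      rw [← map_sum, h1]
      refine Ideal.Quotient.eq_zero_iff_mem.2 ?_
      rw [(Nat.cast_commute l _).eq]
      exact I.mul_mem_left _ (Ideal.subset_span rfl)
    have h3 := congrArg (ULift.ringEquiv (R := (S ⧸ I))).symm h2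
    rw [map_sum, map_zero] at h3
    exact h3
  have h1 := hU (ULift.{u} (S ⧸ I)) φ hp hsum
  have h2 : (1 : S ⧸ I) = 0 := by
    have := congrArg (ULift.ringEquiv (R := (S ⧸ I))) h1
    rwa [map_one, map_zero] at this
  have h3 : (1 : S) ∈ I := by
    rw [← Ideal.Quotient.eq_zero_iff_mem, map_one]
    exact h2
  exact Ideal.mem_span_singleton'.1 h3

/-- An integral endomorphism is not the inverse of a prime. -/
theorem not_inv_prime {V : Type*} [AddCommGroup V] [Module ℂ V] [Nontrivial V] {l : ℕ}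
    (hl : l.Prime) {c : Module.End ℂ V} (hint : IsIntegral ℤ c)
    (hc : c * (l : Module.End ℂ V) = 1) : False := by
  have hlC : (l : ℂ) ≠ 0 := by exact_mod_cast hl.ne_zero
  have hc' : c = algebraMap ℂ _ ((1 : ℂ) / l) := by
    have h6 : (algebraMap ℂ (Module.End ℂ V) (l : ℂ)) = (l : Module.End ℂ V) :=
      map_natCast _ l
    calc c = c * (algebraMap ℂ _ (l : ℂ) * algebraMap ℂ _ ((1 : ℂ) / l)) := by
          rw [← map_mul, mul_one_div_cancel hlC, map_one, mul_one]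
      _ = algebraMap ℂ _ ((1 : ℂ) / l) := by rw [h6, ← mul_assoc, hc, one_mul]
  have hinj : Function.Injective (algebraMap ℂ (Module.End ℂ V)) :=
    FaithfulSMul.algebraMap_injective ℂ (Module.End ℂ V)
  let ψ : ℂ →ₐ[ℤ] Module.End ℂ V :=
    { algebraMap ℂ (Module.End ℂ V) with
      commutes' := fun m => by
        have := map_intCast (algebraMap ℂ (Module.End ℂ V)) m
        rw [eq_intCast (algebraMap ℤ ℂ), eq_intCast (algebraMap ℤ (Module.End ℂ V))]
        exact this }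
  have hinj' : Function.Injective ψ := hinj
  have hc2 : c = ψ ((1 : ℂ) / l) := hc'
  rw [hc2] at hint
  have hint2 : IsIntegral ℤ ((1 : ℂ) / l) := (isIntegral_algHom_iff ψ hinj').1 hint
  obtain ⟨k, hk⟩ := GaloisBasic.exists_int_of_isIntegral hint2 ⟨1 / l, by push_cast; rfl⟩
  have h7 : (l : ℂ) * (k : ℂ) = 1 := by
    rw [← hk]
    field_simp
  have h8 : (l : ℤ) * k = 1 := by exact_mod_cast h7
  have h9 : (l : ℤ) ∣ 1 := ⟨k, h8.symm⟩
  exact hl.one_lt.ne' (Nat.dvd_one.1 (by exact_mod_cast h9))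

/-- The class sum acts as a scalar. -/
theorem sum_act (P : Finset Y) (hconj : ∀ g x : Y, x ∈ P → g * x * g⁻¹ ∈ P) {n : ℕ}
    (ρ : Representation ℂ Y (Fin n → ℂ)) [ρ.IsIrreducible] {lam : ℤ}
    (hlam : ∑ g ∈ P, ρ.character g = lam * ρ.character 1) :
    ∑ g ∈ P, (ρ g : Module.End ℂ (Fin n → ℂ)) = (lam : Module.End ℂ (Fin n → ℂ)) := by
  classical
  have := Fintype.ofFinite Y
  have hiff : ∀ x g : Y, g * x * g⁻¹ ∈ P ↔ x ∈ P := fun x g => ⟨fun h => by
    have := hconj g⁻¹ _ h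
    have e : g⁻¹ * (g * x * g⁻¹) * g⁻¹⁻¹ = x := by group
    rwa [e] at this, hconj g x⟩
  have h1 := CentralCharacter.sum_classFunction_smul_eq ρ (fun x => if x ∈ P then (1 : ℂ) else 0)
    (fun x g => by simp only [hiff x g])
  have h2 : ∑ x : Y, (if x ∈ P then (1 : ℂ) else 0) • (ρ x : (Fin n → ℂ) →ₗ[ℂ] (Fin n → ℂ))
      = ∑ g ∈ P, (ρ g : Module.End ℂ (Fin n → ℂ)) := by
    simp only [ite_smul, one_smul, zero_smul]
    rw [← Finset.sum_filter]
    refine Finset.sum_congr ?_ fun _ _ => rfl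
    ext x; simp
  have h3 : ∑ x : Y, (if x ∈ P then (1 : ℂ) else 0) * ρ.character x
      = ∑ g ∈ P, ρ.character g := by
    simp only [ite_mul, one_mul, zero_mul]
    rw [← Finset.sum_filter]
    refine Finset.sum_congr ?_ fun _ _ => rfl
    ext x; simp
  have h4 : (Module.finrank ℂ (Fin n → ℂ) : ℂ) = ρ.character 1 := by
    rw [Representation.char_one]
  have h0 : ρ.character 1 ≠ 0 := by
    rw [← h4]
    exact_mod_cast (CentralCharacter.finrank_pos_of_irreducible ρ).ne'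
  rw [← h2, h1, h3, h4, hlam, mul_div_assoc, div_self h0, mul_one]
  refine LinearMap.ext fun v => ?_
  rw [LinearMap.smul_apply, LinearMap.id_apply, Module.End.intCast_apply, Int.cast_smul_eq_zsmul]

/-- Passing to the subring generated by the image of `Y`. -/
theorem exists_integral_inv {p : ℕ} (P : Finset Y)
    (hU : ∀ (A : Type u) [Ring A] (φ : Y →* A), IsUnit (p : A) → (∑ g ∈ P, φ g) = 0 → (1 : A) = 0)
    {l : ℕ} (hl : l.Prime) (hlp : ¬ l ∣ p) {S : Type} [Ring S] (ρ : Y →* S) {w : ℤ}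
    (hact : ∑ g ∈ P, ρ g = (l : S) * (w : S)) : ∃ c : S, IsIntegral ℤ c ∧ c * (l : S) = 1 := by
  let f : MonoidAlgebra ℤ Y →ₐ[ℤ] S := MonoidAlgebra.lift ℤ S Y ρ
  have hfρ : ∀ g : Y, f (MonoidAlgebra.single g 1) = ρ g := fun g => by
    simp only [f, MonoidAlgebra.lift_single, one_smul]
  let T : Subring S := f.toRingHom.range
  have hmem : ∀ g, ρ g ∈ T := fun g => ⟨MonoidAlgebra.single g 1, hfρ g⟩
  let φ0 : Y →* T :=
    { toFun := fun g => ⟨ρ g, hmem g⟩
      map_one' := Subtype.ext (map_one ρ)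
      map_mul' := fun a b => Subtype.ext (map_mul ρ a b) }
  have h1 : ∑ g ∈ P, φ0 g = ((l : ℕ) : T) * ((w : ℤ) : T) := by
    apply Subtype.ext
    rw [AddSubmonoidClass.coe_finsetSum]
    push_cast
    exact hact
  obtain ⟨c, hc⟩ := exists_inv_of_sum P hU hl hlp φ0 h1
  obtain ⟨a, ha⟩ := c.2
  refine ⟨c, ?_, ?_⟩
  · have ha' : f a = (c : S) := ha
    rw [← ha']
    have : IsIntegral ℤ a := Algebra.IsIntegral.isIntegral a
    exact this.map f
  · have := congrArg (Subtype.val) hc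
    push_cast at this
    exact this

/-- No prime `l` with `p` invertible modulo `l` divides the central character value. -/
theorem not_dvd_lam {p : ℕ} (P : Finset Y) (hconj : ∀ g x : Y, x ∈ P → g * x * g⁻¹ ∈ P)
    (hU : ∀ (A : Type u) [Ring A] (φ : Y →* A), IsUnit (p : A) → (∑ g ∈ P, φ g) = 0 → (1 : A) = 0)
    (χ : IrrCharacter Y) {lam : ℤ} (hlam : ∑ g ∈ P, (χ : Y → ℂ) g = lam * (χ : Y → ℂ) 1)
    {l : ℕ} (hl : l.Prime) (hlp : ¬ l ∣ p) : ¬ (l : ℤ) ∣ lam := by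
  rintro ⟨w, hw⟩
  obtain ⟨n, ρ, hρ, hρχ⟩ := χ.2
  rw [← hρχ] at hlam
  have hact := sum_act P hconj ρ hlam
  have hnt : Nontrivial (Fin n → ℂ) :=
    Module.nontrivial_of_finrank_pos (CentralCharacter.finrank_pos_of_irreducible ρ)
  rw [hw] at hact
  push_cast at hact
  obtain ⟨c, hc1, hc2⟩ := exists_integral_inv P hU hl hlp
    (S := Module.End ℂ (Fin n → ℂ)) ρ hact
  exact not_inv_prime hl hc1 hc2

/-- An integer divisible by no prime other than `p` is plus or minus a power of `p`. -/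
theorem eq_pow_of_forall {p : ℕ} {lam : ℤ}
    (h : ∀ l : ℕ, l.Prime → l ≠ p → ¬ (l : ℤ) ∣ lam) :
    ∃ (m : ℕ) (e : ℤ), (e = 1 ∨ e = -1) ∧ lam = e * p ^ m := by
  have h1 : ∀ l : ℕ, l.Prime → l ∣ lam.natAbs → l = p := by
    intro l hl hd
    by_contra hne
    exact h l hl hne (Int.natCast_dvd.2 hd)
  have h0 : lam.natAbs ≠ 0 := by
    intro h0
    rw [Int.natAbs_eq_zero] at h0
    subst h0
    obtain ⟨l, hl1, hl2⟩ := Nat.exists_infinite_primes (p + 1)
    exact h l hl2 (by omega) (dvd_zero _)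
  obtain ⟨m, hm⟩ : ∃ m, lam.natAbs = p ^ m := by
    refine ⟨lam.natAbs.primeFactorsList.length, ?_⟩
    exact Nat.eq_prime_pow_of_unique_prime_dvd h0 fun {d} hd hdd => h1 d hd hdd
  rcases Int.natAbs_eq lam with h2 | h2
  · exact ⟨m, 1, Or.inl rfl, by rw [h2, hm]; push_cast; ring⟩
  · exact ⟨m, -1, Or.inr rfl, by rw [h2, hm]; push_cast; ring⟩

theorem eq_pow_of_unit {p : ℕ} (hp : p.Prime) (P : Finset Y)
    (hconj : ∀ g x : Y, x ∈ P → g * x * g⁻¹ ∈ P) (hgal : H695.OneZero.Gal P)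
    (hU : ∀ (A : Type u) [Ring A] (φ : Y →* A), IsUnit (p : A) → (∑ g ∈ P, φ g) = 0 → (1 : A) = 0)
    (χ : IrrCharacter Y) : ∃ (m : ℕ) (e : ℤ), (e = 1 ∨ e = -1) ∧
      ∑ g ∈ P, (χ : Y → ℂ) g = e * (p : ℂ) ^ m * (χ : Y → ℂ) 1 := by
  obtain ⟨lam, hlam⟩ := exists_lam P hconj hgal χ
  obtain ⟨m, e, he, h⟩ := eq_pow_of_forall (p := p) (lam := lam) fun l hl hlp =>
    not_dvd_lam P hconj hU χ hlam hl fun hd => hlp ((Nat.prime_dvd_prime_iff_eq hl hp).1 hd)
  refine ⟨m, e, he, ?_⟩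
  rw [hlam, h]
  push_cast
  ring

open H631.Kaw in
theorem conj_mem_pel {p : ℕ} (g x : Y) (hx : x ∈ pel Y p) : g * x * g⁻¹ ∈ pel Y p := by
  rw [mem_pel] at hx ⊢
  obtain ⟨k, hk⟩ := hx
  refine ⟨k, ?_⟩
  rw [← hk, ← MulAut.conj_apply]
  exact MulEquiv.orderOf_eq (MulAut.conj g) x

open H631.Kaw in
theorem gal_pel (Y : Type u) [Group Y] [Finite Y] (p : ℕ) : H695.OneZero.Gal (pel Y p) := by
  intro g hg k hk
  rw [mem_pel] at hg ⊢
  obtain ⟨j, hj⟩ := hg
  refine ⟨j, ?_⟩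
  rw [← hj]
  exact Nat.Coprime.orderOf_pow
    ((hk.coprime_dvd_right (orderOf_dvd_natCard g)).symm)

open H631.Kaw in
/-- **Piece B.** -/
theorem kaw_of_unit {p : ℕ} (hp : p.Prime)
    (hU : ∀ (A : Type u) [Ring A] (φ : Y →* A), IsUnit (p : A) →
      (∑ g ∈ pel Y p, φ g) = 0 → (1 : A) = 0) (χ : IrrCharacter Y) :
    ∃ (m : ℕ) (e : ℤ), (e = 1 ∨ e = -1) ∧
      ∑ g ∈ pel Y p, (χ : Y → ℂ) g = e * (p : ℂ) ^ m * (χ : Y → ℂ) 1 :=
  eq_pow_of_unit hp (pel Y p) conj_mem_pel (gal_pel Y p) hU χ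

end Cfsg.Agent.H732.Kaw
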